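/-
S2858, claim (N), package NP (helper24): the glue giving the pair facts (I1)-(I3) for any two
distinct conjugates `cj a L`, `cj b L` (`a, b ∈ P₂`).
-/
import Cfsg.Agent.Lib.Helper45.S3Amal.NDefs

set_option autoImplicit false

namespace Cfsg.Agent.Lib.Helper24.S3Amal

open Cfsg.Agent.Lib.Helper71.Sym Cfsg.Agent.Lib.Helper45.S3Amal

universe u

section

variable {G : Type*} [Group G]

theorem nz_cj_eq {H K : Subgroup G} (hN : Nz H K) {h : G} (hh : h ∈ H) : cj h K = K := by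
  ext a
  rw [mem_cj]
  constructor
  · intro ha
    have := hN h hh _ ha
    have e : h * (h⁻¹ * a * h) * h⁻¹ = a := by group
    rwa [e] at this
  · intro ha
    have := hN h⁻¹ (H.inv_mem hh) a ha
    rwa [inv_inv] at this

theorem nz_cj {H K : Subgroup G} (hN : Nz H K) (a : G) : Nz (cj a H) (cj a K) := by
  intro h hh k hk
  rw [mem_cj] at hh hk ⊢
  have := hN _ hh _ hk
  have e : a⁻¹ * (h * k * h⁻¹) * a = a⁻¹ * h * a * (a⁻¹ * k * a) * (a⁻¹ * h * a)⁻¹ := by group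
  rw [e]
  exact this

theorem nz_sSup {H : Subgroup G} {𝒩 : Set (Subgroup G)} (hall : ∀ N ∈ 𝒩, Nz H N) :
    Nz H (sSup 𝒩) := by
  intro h hh k hk
  have hle : sSup 𝒩 ≤ (sSup 𝒩).comap (MulAut.conj h).toMonoidHom := by
    apply sSup_le
    intro N hN n hn
    rw [Subgroup.mem_comap]
    exact (le_sSup hN) (hall N hN h hh n hn)
  have := hle hk
  rw [Subgroup.mem_comap] at this
  exact this

/-- the stabilizer of `D` under conjugation -/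
def stabCj (D : Subgroup G) : Subgroup G where
  carrier := {g | cj g D = D}
  mul_mem' := by
    intro g h hg hh
    show cj (g * h) D = D
    rw [cj_mul, (hh : cj h D = D), (hg : cj g D = D)]
  one_mem' := cj_one D
  inv_mem' := by
    intro g hg
    show cj g⁻¹ D = D
    have h1 : cj g⁻¹ (cj g D) = D := by rw [← cj_mul, inv_mul_cancel, cj_one]
    rwa [(hg : cj g D = D)] at h1

theorem mem_stabCj {D : Subgroup G} {g : G} : g ∈ stabCj D ↔ cj g D = D := Iff.rfl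

end

/-- **NP.** -/
theorem pkgNP : PkgNP.{u} := by
  intro hNT hZL hNS hNC hNEA hNI n IH G _ P₁ P₂ T Q₁ Q₂ L ctx hn a ha b hb hab
  -- basic invariance facts
  have hQ₂n : Nz P₂ Q₂ := ctx.a₂.hQn
  have cjQ : ∀ c ∈ P₂, cj c Q₂ = Q₂ := fun c hc => nz_cj_eq hQ₂n hc
  have hTL : ∀ τ ∈ T, cj τ L = L := fun τ hτ => nz_cj_eq ctx.nL (ctx.a₁.hTH hτ)
  have hTD : ∀ τ ∈ T, cj τ (Q₁ ⊓ Q₂) = Q₁ ⊓ Q₂ := fun τ hτ => nz_cj_eq ctx.nD (ctx.a₁.hTH hτ)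
  have hainv : a⁻¹ ∈ P₂ := P₂.inv_mem ha
  have hbinv : b⁻¹ ∈ P₂ := P₂.inv_mem hb
  -- the two conjugates
  have hA₁ : LAmal (cj a L) Q₂ (cj a (Q₁ ⊓ Q₂)) := by
    have h1 := hNT L Q₂ (Q₁ ⊓ Q₂) a ctx.aL
    rwa [cjQ a ha] at h1
  have hA₂ : LAmal (cj b L) Q₂ (cj b (Q₁ ⊓ Q₂)) := by
    have h1 := hNT L Q₂ (Q₁ ⊓ Q₂) b ctx.aL
    rwa [cjQ b hb] at h1
  have hZ₁ := hZL _ _ _ hA₁
  have hZ₂ := hZL _ _ _ hA₂
  -- `D₁ ≠ D₂`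
  have hne : cj a (Q₁ ⊓ Q₂) ≠ cj b (Q₁ ⊓ Q₂) := by
    intro heq
    have h1 : cj (a⁻¹ * b) (Q₁ ⊓ Q₂) = Q₁ ⊓ Q₂ := by
      rw [cj_mul, ← heq, ← cj_mul, inv_mul_cancel, cj_one]
    have hK : P₂ ⊓ stabCj (Q₁ ⊓ Q₂) = T ∨ P₂ ⊓ stabCj (Q₁ ⊓ Q₂) = P₂ :=
      ctx.z₂.maxT _ (le_inf ctx.a₂.hTH (fun τ hτ => mem_stabCj.mpr (hTD τ hτ))) inf_le_left
    have hmem : a⁻¹ * b ∈ P₂ ⊓ stabCj (Q₁ ⊓ Q₂) := ⟨P₂.mul_mem hainv hb, mem_stabCj.mpr h1⟩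
    have hP₂ : P₂ ≤ stabCj (Q₁ ⊓ Q₂) := by
      rcases hK with hK | hK
      · rw [hK] at hmem
        exact absurd hmem hab
      · intro x hx
        have : x ∈ P₂ ⊓ stabCj (Q₁ ⊓ Q₂) := by rw [hK]; exact hx
        exact this.2
    have hNz₂ : Nz P₂ (Q₁ ⊓ Q₂) := by
      intro h hh d hd
      have h2 : cj h (Q₁ ⊓ Q₂) = Q₁ ⊓ Q₂ := mem_stabCj.mp (hP₂ hh)
      rw [← h2]
      exact conj_mem_cj hd
    have hbot : Q₁ ⊓ Q₂ = ⊥ :=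
      ctx.core _ (inf_le_right.trans ctx.a₂.hQT) ctx.nD hNz₂
    obtain ⟨h, hh, t, ht, hnot⟩ := ctx.aL.hTn
    have hhD : h ∈ Q₁ ⊓ Q₂ := by
      apply ctx.aL.hCQ h hh
      intro q hq
      rw [hbot, Subgroup.mem_bot] at hq
      rw [hq, mul_one, one_mul]
    rw [hbot, Subgroup.mem_bot] at hhD
    apply hnot
    rw [hhD, one_mul, inv_one, mul_one]
    exact ht
  -- the swap
  have hswap : ∃ t : G, cj t Q₂ = Q₂ ∧ cj t (cj a L) = cj b L ∧ cj t (cj b L) = cj a L := by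
    obtain ⟨t₀, ht₀, h1, h2⟩ := hNS P₂ T Q₂ ctx.a₂ ctx.z₂ (a⁻¹ * b) (P₂.mul_mem hainv hb) hab
    refine ⟨a * t₀ * a⁻¹, cjQ _ (P₂.mul_mem (P₂.mul_mem ha ht₀) hainv), ?_, ?_⟩
    · have e1 : a * t₀ * a⁻¹ * a = a * t₀ := by group
      have e2 : b = a * t₀ * (t₀⁻¹ * (a⁻¹ * b)) := by group
      rw [← cj_mul, e1]
      conv_rhs => rw [e2, cj_mul, hTL _ h1]
    · have e1 : a * t₀ * a⁻¹ * b = a * (t₀ * (a⁻¹ * b)) := by group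
      rw [← cj_mul, e1, cj_mul, hTL _ h2]
  -- the subgroup `K`
  obtain ⟨K, hKdef⟩ : ∃ K : Subgroup G, K = sSup {N : Subgroup G | N ≤ Q₂ ∧ Nz (cj a L) N ∧
      Nz (cj b L) N} := ⟨_, rfl⟩
  have hKS : K ≤ Q₂ := by
    rw [hKdef]
    exact sSup_le (fun N hN => hN.1)
  have hK₁ : Nz (cj a L) K := by
    rw [hKdef]
    exact nz_sSup (fun N hN => hN.2.1)
  have hK₂ : Nz (cj b L) K := by
    rw [hKdef]
    exact nz_sSup (fun N hN => hN.2.2)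
  have hKmax : ∀ N : Subgroup G, N ≤ Q₂ → Nz (cj a L) N → Nz (cj b L) N → N ≤ K := by
    intro N h1 h2 h3
    rw [hKdef]
    exact le_sSup ⟨h1, h2, h3⟩
  -- (hC) for both conjugates, from NC
  have hCgen : ∀ c ∈ P₂, ∀ c' ∈ P₂, c⁻¹ * c' ∉ T → Nz (cj c L) K → Nz (cj c' L) K →
      ∀ g ∈ cj c L, (∀ d ∈ cj c (Q₁ ⊓ Q₂), g * d * g⁻¹ * d⁻¹ ∈ K) → g ∈ cj c (Q₁ ⊓ Q₂) := by
    intro c hc c' hc' hcc' hN1 hN2 g hg hcomm
    have hcinv : c⁻¹ ∈ P₂ := P₂.inv_mem hc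
    have hK' : cj c⁻¹ K ≤ Q₂ := by
      have := cj_mono hKS c⁻¹
      rwa [cjQ _ hcinv] at this
    have hL1 : Nz L (cj c⁻¹ K) := by
      have := nz_cj hN1 c⁻¹
      rwa [← cj_mul, inv_mul_cancel, cj_one] at this
    have hL2 : Nz (cj (c⁻¹ * c') L) (cj c⁻¹ K) := by
      have := nz_cj hN2 c⁻¹
      rwa [← cj_mul] at this
    have hg' : c⁻¹ * g * c ∈ L := mem_cj.mp hg
    have := hNC P₁ P₂ T Q₁ Q₂ L ctx (c⁻¹ * c') (P₂.mul_mem hcinv hc') hcc' (cj c⁻¹ K) hK' hL1 hL2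
      (c⁻¹ * g * c) hg' (by
        intro d hd
        rw [mem_cj, inv_inv]
        have h1 := hcomm (c * d * c⁻¹) (conj_mem_cj hd)
        have e : c * (c⁻¹ * g * c * d * (c⁻¹ * g * c)⁻¹ * d⁻¹) * c⁻¹
            = g * (c * d * c⁻¹) * g⁻¹ * (c * d * c⁻¹)⁻¹ := by group
        rw [e]
        exact h1)
    exact mem_cj.mpr this
  have hab' : b⁻¹ * a ∉ T := by
    intro h
    apply hab
    have := T.inv_mem h
    have e : (b⁻¹ * a)⁻¹ = a⁻¹ * b := by group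
    rwa [e] at this
  have hC₁ := hCgen a ha b hb hab hK₁ hK₂
  have hC₂ := hCgen b hb a ha hab' hK₂ hK₁
  -- NEA and NI
  obtain ⟨hEA₁, hEA₂⟩ := hNEA n IH (cj a L) (cj b L) Q₂ (cj a (Q₁ ⊓ Q₂)) (cj b (Q₁ ⊓ Q₂)) K
    hA₁ hA₂ hZ₁ hZ₂ hne hn hswap hKS hK₁ hK₂ hKmax hC₁ hC₂
  obtain ⟨hI1, hI2, hI3⟩ := hNI (cj a L) (cj b L) Q₂ (cj a (Q₁ ⊓ Q₂)) (cj b (Q₁ ⊓ Q₂)) K
    hA₁ hA₂ hZ₁ hZ₂ hne hswap hKS hK₁ hK₂ hKmax hC₁ hEA₁ hEA₂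
  exact ⟨fun g hg hg2 => hI1 g hg (by rw [hg2]; exact K.one_mem), hI2, hI3⟩

end Cfsg.Agent.Lib.Helper24.S3Amal
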